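import Mathlib
import Cfsg.Agent.Lib.Helper95.BRA.Defs
import Cfsg.Agent.Lib.Helper78.BlockOrth
import Cfsg.Agent.Lib.Helper78.LocalIdeal
import Cfsg.Agent.Lib.Helper79.ClassMult
import Cfsg.Agent.Lib.Helper79.CharSum
import Cfsg.Agent.Lib.Helper81.CharCore

/-!
# Project BRA (S4484): package [C2]

A nonprincipal irreducible character of degree prime to `q` in the principal `p`-block
(block orthogonality at `1` and an element of order `p`).
-/

set_option autoImplicit false

namespace Cfsg.Agent.Lib.Helper49.BRA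

open Cfsg Cfsg.Agent.Lib.Helper95.BRA

universe u

/-- a `p`-modular maximal ideal of the ring of algebraic integers exists -/
theorem c2_exists_isPModular (p : ℕ) (hp : p.Prime) :
    ∃ M : Ideal Cfsg.AlgInt, Cfsg.IsPModular p M := by
  have hne : Ideal.span {((p : ℕ) : Cfsg.AlgInt)} ≠ ⊤ := by
    rw [Ne, Ideal.span_singleton_eq_top]
    intro hu
    obtain ⟨v, hv⟩ := hu.exists_right_inv
    have h1 : ((1 : ℕ) : ℂ) = ((p : ℕ) : ℂ) * (v : ℂ) := by
      have := congrArg (integralClosure ℤ ℂ).val hv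
      rw [map_mul, map_natCast, map_one] at this
      rw [Nat.cast_one]
      exact this.symm
    have h2 := Cfsg.Agent.Lib.Helper79.nat_dvd_of_eq_mul_isIntegral 1 p hp.ne_zero (v : ℂ) v.2 h1
    have := Nat.le_of_dvd Nat.one_pos h2
    have := hp.one_lt
    omega
  obtain ⟨M, hM, hle⟩ := Ideal.exists_le_maximal _ hne
  exact ⟨M, hp, hM, hle (Ideal.subset_span rfl)⟩

theorem pkgC2 : PkgC2.{u} := by
  intro G _ _ p q hp hq z hz
  classical
  obtain ⟨M, hM⟩ := c2_exists_isPModular p hp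
  refine ⟨M, hM, ?_⟩
  have : Fact p.Prime := ⟨hp⟩
  let _ := Fintype.ofFinite G
  have hfin : Finite (IrrCharacter G) := Cfsg.Agent.Lib.Helper81.irr_finite G
  let _ := Fintype.ofFinite (IrrCharacter G)
  let one : IrrCharacter G := ⟨fun _ => 1, Cfsg.Agent.Lib.Helper81.isIrrCharacter_one⟩
  set B : Set (IrrCharacter G) := blockOf M (fun _ : G => (1:ℂ)) with hB
  have hBblock : IsPBlock M B := ⟨one, rfl⟩
  have h1 : ¬ p ∣ orderOf (1 : G) := by
    rw [orderOf_one]
    exact hp.one_lt.ne' ∘ Nat.dvd_one.mp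
  have hzp : p ∣ orderOf z := by rw [hz]
  have horth := Cfsg.Agent.Lib.Helper78.block_orth_regular_singular hM B hBblock h1 hzp
  by_contra hcon
  push Not at hcon
  have honeB : one ∈ B := by
    intro g
    show MemLocalIdeal M (centralChar (fun _ : G => (1:ℂ)) g - centralChar (fun _ : G => (1:ℂ)) g)
    rw [sub_self]
    exact Cfsg.Agent.Lib.Helper78.memLocalIdeal_zero hM
  -- every other member of B has degree divisible by q
  have hdiv : ∀ χ : IrrCharacter G, χ ∈ B → χ ≠ one →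
      ∃ α : ℂ, IsIntegral ℤ α ∧ (χ : G → ℂ) 1 * (χ : G → ℂ) z⁻¹ = (q : ℂ) * α := by
    intro χ hχB hχ1
    have hne : (χ : G → ℂ) ≠ (fun _ => 1) := fun h => hχ1 (Subtype.ext h)
    have hq : q ∣ charDegree (χ : G → ℂ) := by
      by_contra hq
      exact hcon χ.1 χ.2 hne hq hχB
    obtain ⟨n, hn, hn1⟩ := Cfsg.Agent.Lib.Helper81.irr_one_eq χ
    have hdeg : charDegree (χ : G → ℂ) = n := by
      unfold charDegree
      rw [hn1]
      simp
    rw [hdeg] at hq
    obtain ⟨k, rfl⟩ := hq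
    refine ⟨(k : ℂ) * (χ : G → ℂ) z⁻¹, ?_, ?_⟩
    · exact IsIntegral.mul (isIntegral_algebraMap (R := ℤ) (x := (k : ℤ)) |> fun h => by simpa using h)
        (Cfsg.Agent.Lib.Helper79.irr_isIntegral χ.2 z⁻¹)
    · rw [hn1]; push_cast; ring
  rw [finsum_mem_eq_finite_toFinset_sum _ (Set.toFinite B)] at horth
  have hmem : one ∈ (Set.toFinite B).toFinset := by
    rw [Set.Finite.mem_toFinset]; exact honeB
  rw [← Finset.add_sum_erase _ _ hmem] at horth
  have hsum : ∃ α : ℂ, IsIntegral ℤ α ∧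
      ∑ χ ∈ ((Set.toFinite B).toFinset).erase one, (χ : G → ℂ) 1 * (χ : G → ℂ) z⁻¹ = (q : ℂ) * α := by
    choose! f hf using hdiv
    refine ⟨∑ χ ∈ ((Set.toFinite B).toFinset).erase one, f χ, ?_, ?_⟩
    · refine IsIntegral.sum _ ?_
      intro χ hχ
      rw [Finset.mem_erase, Set.Finite.mem_toFinset] at hχ
      exact (hf χ hχ.2 hχ.1).1
    · rw [Finset.mul_sum]
      refine Finset.sum_congr rfl ?_
      intro χ hχ
      rw [Finset.mem_erase, Set.Finite.mem_toFinset] at hχ
      exact (hf χ hχ.2 hχ.1).2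
  obtain ⟨α, hα, hαs⟩ := hsum
  rw [hαs] at horth
  have hone : (one : G → ℂ) 1 * (one : G → ℂ) z⁻¹ = 1 := by
    show (1:ℂ) * 1 = 1
    ring
  rw [hone] at horth
  have h2 : ((1 : ℕ) : ℂ) = (q : ℂ) * (-α) := by
    rw [Nat.cast_one]
    linear_combination horth
  have h3 := Cfsg.Agent.Lib.Helper79.nat_dvd_of_eq_mul_isIntegral 1 q hq.ne_zero (-α) hα.neg h2
  have := Nat.le_of_dvd Nat.one_pos h3
  have := hq.one_lt
  omega

end Cfsg.Agent.Lib.Helper49.BRA
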